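import Cfsg.Agent.H936.List12c
import Cfsg.Agent.H937.T2Fields
import Cfsg.Agent.H914.SixA5d
import Cfsg.Agent.H936.SixA7
import Cfsg.Agent.H936.SixA7Two
import Cfsg.Agent.H793.TD.Main
import Cfsg.Agent.H614.AMod.Main
import Cfsg.Agent.H219.HerSmall

/-!
# `Sp₆(q)`: alternating socles (helper915)

`alt_rows` : `S : Hyp 3 H P`, `Soc P` alternating: the alternatives `A₅` and `A₇` of `S5806`.
-/

set_option autoImplicit false
set_option linter.unusedSectionVars false

namespace Cfsg.Agent.H915.Six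

open Cfsg Cfsg.Geo Matrix Cfsg.Agent.H915.LD Cfsg.Agent.H914.S6

universe u

variable {F : Type u} [Field F] [Fintype F] {H P : Subgroup (GL (Fin 3 ⊕ Fin 3) F)} (p : ℕ)
  [hp : Fact p.Prime] [hFp : CharP F p]

/-- the alternative `A₅` -/
def Five (P : Subgroup (GL (Fin 3 ⊕ Fin 3) F)) : Prop :=
  Nonempty (Soc P ≃* alternatingGroup (Fin 5)) ∧ Fintype.card F = p ∧
    (p % 40 = 3 ∨ p % 40 = 37 ∨ p % 40 = 13 ∨ p % 40 = 27 ∨ p % 8 = 1 ∨ p % 8 = 7)

/-- the alternative `A₇` -/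
def SevenA (P : Subgroup (GL (Fin 3 ⊕ Fin 3) F)) : Prop :=
  Nonempty (Soc P ≃* alternatingGroup (Fin 7)) ∧ Fintype.card F = 9

theorem fixA_of_hyp (S : Hyp 3 H P) : FixA P :=
  ⟨sympForm 3 F, H924.isSymplecticForm_sympForm (m := 3) (F := F), fixes_of_le S.P_le⟩

/-- the golden ratio in `F_p`, `p ≡ ± 1` mod `5` -/
theorem exists_tau (h2 : (2 : F) ≠ 0) (hF : Fintype.card F = p) (hp2 : p ≠ 2) (h5 : p % 5 = 1 ∨ p % 5 = 4) :
    ∃ τ : F, τ * τ = τ + 1 := by
  have h5p : Fact (Nat.Prime 5) := ⟨Nat.prime_five⟩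
  have h1 : IsSquare ((5 : ℕ) : ZMod p) := by
    rw [← ZMod.exists_sq_eq_prime_iff_of_mod_four_eq_one (p := 5) (q := p) (by norm_num) hp2]
    have h3 : ((p : ℕ) : ZMod 5) = ((p % 5 : ℕ) : ZMod 5) := by rw [ZMod.natCast_mod]
    rw [h3]
    rcases h5 with h | h <;> rw [h]
    · exact ⟨1, by simp⟩
    · exact ⟨2, by norm_num⟩
  obtain ⟨x, hx⟩ := h1
  let f : ZMod p →+* F := ZMod.castHom (dvd_refl p) F
  have h4 : f x * f x = 5 := by
    rw [← map_mul, ← hx, map_natCast]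
    norm_num
  refine ⟨(1 + f x) / 2, ?_⟩
  field_simp
  linear_combination h4

include hp hFp in
/-- **`A₅`** -/
theorem a5_row (S : Hyp 3 H P) (e : Soc P ≃* alternatingGroup (Fin 5)) : Five p P := by
  obtain ⟨h2, h5, hF, hneg⟩ := H937.T2.sp_six_a5_neg p S.max S.core e
  refine ⟨⟨e⟩, hF, ?_⟩
  by_contra hcon
  push Not at hcon
  obtain ⟨c1, c2, c3, c4, c5, c6⟩ := hcon
  have hodd : p % 2 = 1 := by
    rcases hp.out.eq_two_or_odd with h | h
    · exact absurd h h2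
    · exact h
  have h50 : p % 5 ≠ 0 := by
    intro h
    exact h5 ((Nat.prime_dvd_prime_iff_eq Nat.prime_five hp.out).1 (Nat.dvd_of_mod_eq_zero h)).symm
  have h20 : (2 : F) ≠ 0 := by
    intro h
    have h7 : ((2 : ℕ) : F) = 0 := by exact_mod_cast h
    rw [CharP.cast_eq_zero_iff F p] at h7
    exact h2 ((Nat.prime_dvd_prime_iff_eq hp.out Nat.prime_two).1 h7)
  have h7 : 7 ≤ p := by
    by_contra h
    have : p < 7 := by omega
    interval_cases p <;> simp_all
  have hsq : ¬ IsSquare (2 : F) := by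
    rw [FiniteField.isSquare_two_iff, hF]
    omega
  have h54 : p % 5 = 1 ∨ p % 5 = 4 := by
    have e5 : p % 5 = (p % 40) % 5 := (Nat.mod_mod_of_dvd p (by norm_num)).symm
    have e8 : p % 8 = (p % 40) % 8 := (Nat.mod_mod_of_dvd p (by norm_num)).symm
    have e2 : p % 2 = (p % 40) % 2 := (Nat.mod_mod_of_dvd p (by norm_num)).symm
    have hr : p % 40 < 40 := Nat.mod_lt _ (by norm_num)
    rw [e8] at c5 c6
    rw [e2] at hodd
    rw [e5] at h50 ⊢
    clear e5 e8 e2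
    generalize p % 40 = r at *
    interval_cases r <;> omega
  obtain ⟨τ, hτ⟩ := exists_tau p h20 hF h2 h54
  obtain ⟨f⟩ := Cfsg.Agent.S0253.result (F := ZMod 5) (ZMod.card 5)
  exact a5_false' S p h7 hneg (e.trans f.symm) hsq hτ

/-- the scalars of `P` -/
theorem card_scalars (S : Hyp 3 H P) : ¬ 3 ∣ Nat.card ((scalars (Fin 3 ⊕ Fin 3) F).subgroupOf P) := by
  intro h3
  have : Fact (Nat.Prime 3) := ⟨by norm_num⟩
  obtain ⟨z, hz⟩ := exists_prime_orderOf_dvd_card' (G := (scalars (Fin 3 ⊕ Fin 3) F).subgroupOf P) 3 h3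
  have h1 := z.2
  rw [Subgroup.mem_subgroupOf] at h1
  have h2 : ((z : P) : GL (Fin 3 ⊕ Fin 3) F) ^ 2 = 1 := by
    rcases scalar_cases (by norm_num) (S.P_le (z : P).2) h1 with h | h
    · rw [h, one_pow]
    · rw [h, neg_one_sq]
  have h4 : z ^ 2 = 1 := by
    apply Subtype.ext
    apply Subtype.ext
    exact h2
  have h5 := orderOf_dvd_of_pow_eq_one h4
  rw [hz] at h5
  norm_num at h5

include hp hFp in
/-- **`A₆`** -/
theorem a6_row (S : Hyp 3 H P) (hL : ¬ IsLieTypeChar p (Soc P)) (e : Soc P ≃* alternatingGroup (Fin 6)) : False := by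
  have hp3 : p ≠ 3 := by
    rintro rfl
    obtain ⟨K, i1, i2, hK, -, ⟨f⟩⟩ := H937.T2.exists_nine e
    exact hL (H936.List12.lie_of_isL (q := 9) hp.out (by norm_num) le_rfl (by norm_num) ⟨K, i1, i2, hK, ⟨f⟩⟩)
  have h1 := H937.T2.a6_dims p S.toCore e (card_scalars S) hp3
  simp at h1

include hp hFp in
/-- **`A₇`** -/
theorem a7_row (S : Hyp 3 H P) (e : Soc P ≃* alternatingGroup (Fin 7)) : SevenA P := by
  have hC := S.toCore
  have hA := fixA_of_hyp S
  have h6 : Fintype.card (Fin 3 ⊕ Fin 3) = 6 := by simp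
  by_cases hp2 : p = 2
  · exfalso
    subst hp2
    have h20 : (2 : F) = 0 := CharTwo.two_eq_zero
    refine S.noQ (H936.SixA7Two.a7_two hC hA h6 ?_ e)
    rw [Subgroup.eq_bot_iff_forall]
    intro z hz
    rw [Subgroup.mem_subgroupOf] at hz
    apply Subtype.ext
    rcases scalar_cases (by norm_num) (S.P_le z.2) hz with h | h
    · exact h
    · rw [h]
      apply Units.ext
      ext i j
      simp only [Units.val_neg, Units.val_one, Matrix.neg_apply, OneMemClass.coe_one]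
      exact neg_eq_of_add_eq_zero_left (by rw [← two_mul, h20, zero_mul])
  · have h20 : (2 : F) ≠ 0 := by
      intro h
      have h7 : ((2 : ℕ) : F) = 0 := by exact_mod_cast h
      rw [CharP.cast_eq_zero_iff F p] at h7
      exact hp2 ((Nat.prime_dvd_prime_iff_eq hp.out Nat.prime_two).1 h7)
    by_cases hZ : (scalars (Fin 3 ⊕ Fin 3) F).subgroupOf P = ⊥
    · exact (H936.SixA7.a7_simple hC h20 hA h6 hZ e).elim
    · exact ⟨⟨e⟩, (H793.TD.a7_double p hC hp2 hA h6 hZ e).2⟩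

include hp hFp in
/-- **The alternating rows.** -/
theorem alt_rows (S : Hyp 3 H P) (hL : ¬ IsLieTypeChar p (Soc P)) (h : H936.List12.AltC p 6 (Soc P)) :
    Five p P ∨ SevenA P := by
  obtain ⟨m, h5, h14, -, -, -, ⟨e⟩⟩ := h
  have hC := S.toCore
  have h6 : Fintype.card (Fin 3 ⊕ Fin 3) = 6 := by simp
  have hm : m = 5 ∨ m = 6 ∨ m = 7 ∨ 8 ≤ m := by omega
  rcases hm with rfl | rfl | rfl | hm
  · exact Or.inl (a5_row p S e)
  · exact (a6_row p S hL e).elim
  · exact Or.inr (a7_row p S e)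
  · exfalso
    have h82 : ¬ (m = 8 ∧ p = 2) := by
      rintro ⟨rfl, rfl⟩
      exact hL (H219.HerSmall.lie_alt8 e)
    rcases H614.AMod.Main.alt_cases hC p e hm (by rw [h6]; norm_num) h82 with h | h | h
    · rcases h.dim hC hm p with ⟨-, h1⟩ | ⟨h1, h3⟩
      · rw [h6] at h1
        omega
      · rw [h6] at h3
        obtain rfl : m = 8 := by omega
        have h4 : p ∣ 2 ^ 3 := by simpa using h1
        exact h82 ⟨rfl, (Nat.prime_dvd_prime_iff_eq hp.out Nat.prime_two).1 (hp.out.dvd_of_dvd_pow h4)⟩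
    · obtain ⟨-, h8, -⟩ := h
      rw [h6] at h8
      omega
    · have := h.1
      rw [h6] at this
      omega

end Cfsg.Agent.H915.Six
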