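import Cfsg.Agent.H151.Six.Red
import Cfsg.Agent.H875.PslRows
import Cfsg.Agent.H911.AdForm
import Cfsg.Agent.H911.AdAltIrr
import Cfsg.Agent.H905.Sp4Final
import Cfsg.Agent.H929.UThreeModel
import Cfsg.Agent.H130.U4.Final
import Cfsg.Agent.H991.SzDim.Main
import Cfsg.Agent.H708.ReeSix
import Cfsg.Agent.H924.D5L
import Cfsg.Agent.H927.G2Main
import Cfsg.Agent.H392.TD.Main
import Cfsg.Agent.H638.G2Iso
import Cfsg.Agent.H64.ChevField

/-!
# `Sp₆(q)`: groups of Lie type in the defining characteristic (helper915)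

`own` : `S : Hyp 3 H P`, `char F = p`, `Soc P` of Lie type in characteristic `p`: `Soc P` is `PSL₂(F)` and `p ≥ 7`, or
`G₂(F)` and `p = 2`, `|F| ≠ 2`.
-/

set_option autoImplicit false
set_option linter.unusedSectionVars false

namespace Cfsg.Agent.H915.Six

open Cfsg Cfsg.Geo Matrix Cfsg.Agent.H915.LD Cfsg.Agent.H914.S6

universe u

variable {F : Type u} [Field F] [Fintype F] {H P : Subgroup (GL (Fin 3 ⊕ Fin 3) F)} (p : ℕ)
  [hp : Fact p.Prime] [hFp : CharP F p]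

include hp hFp in
/-- **Own characteristic.** -/
theorem own (S : Hyp 3 H P) (hL : IsLieTypeChar p (Soc P)) :
    (Nonempty (Soc P ≃* ProjectiveSpecialLinearGroup (Fin 2) F) ∧ 7 ≤ p) ∨
    (Nonempty (Soc P ≃* Cfsg.Lie.G2 F) ∧ p = 2 ∧ Fintype.card F ≠ 2) := by
  have hC := S.toCore
  have hsd := S.sd
  have h6 : Fintype.card (Fin 3 ⊕ Fin 3) = 6 := by simp
  have hq2 : 2 ≤ Fintype.card F := Fintype.one_lt_card
  rcases H151.Six.dc_six p S hL with
    ⟨K, i1, i2, i3, h4, hKF, ⟨e⟩⟩ | ⟨K, i1, i2, i3, hKF, ⟨e⟩⟩ | ⟨K, i1, i2, i3, hKF, ⟨e⟩⟩ |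
    ⟨K, i1, i2, i3, hKF, h3, ⟨e⟩⟩ | ⟨K, i1, i2, i3, hK, h2, ⟨e⟩⟩ | ⟨K, i1, i2, i3, hK, ⟨e⟩⟩ |
    ⟨h2, K, i1, i2, m, hm, hK, hKF, ⟨e⟩⟩ | ⟨h3, K, i1, i2, m, hm, hK, hKF, ⟨e⟩⟩ | ⟨K, i1, i2, i3, ho, ⟨e⟩⟩ |
    ⟨K, i1, i2, i3, a, b, hab, ⟨e⟩⟩ | ⟨K, i1, i2, i3, hK, ⟨e⟩⟩ | ⟨K, i1, i2, i3, q, hq, hK, ⟨e⟩⟩
  · exact Or.inl (H875.PslRows.sp_six p S.max S.core e)
  · exfalso
    have h5 := (H911.Ad.sd_psl3 p hC hsd e (by rw [h6]; norm_num)).2.2.1
    rw [h6] at h5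
    omega
  · exfalso
    exact S.noQ (H911.Ad.sd_psl4 p hC hsd e (by rw [h6]; norm_num)).2.2.1
  · exfalso
    have h5 := (H905.Sp4.core_psp4 p hC (by rw [Nat.card_eq_fintype_card, hKF]; exact h3) e
      (by rw [h6]; norm_num)).2.2
    rw [h6] at h5
    omega
  · exfalso
    have h5 := H929.U3.core_psu3_sd p hC (q := Fintype.card F) (by omega) hK e (by rw [h6]; norm_num) hsd
    rw [h6] at h5
    omega
  · exfalso
    exact S.noQ (H130.U4.u4_six (p := p) hC hsd hK e h6)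
  · exfalso
    subst h2
    exact H991.SzDim.sz_six hC.absIrred hC.perfect hm hK e h6
  · exfalso
    subst h3
    exact H708.ReeSix.ree_six hC hm hK e h6
  · exfalso
    have h5 := H924.D5.po7_card p hC (by rw [h6]; norm_num) (by
      intro h0
      have h1 : CharP K 2 := by
        have h7 : ((2 : ℕ) : K) = 0 := by exact_mod_cast h0
        rw [CharP.cast_eq_zero_iff K p] at h7
        have h8 := (Nat.prime_dvd_prime_iff_eq hp.out Nat.prime_two).1 h7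
        rw [← h8]
        exact i3
      obtain ⟨k, -, hk⟩ := FiniteField.card K 2
      rw [hk] at ho
      exact (Nat.not_even_iff_odd.2 ho) (Nat.even_pow.2 ⟨even_two, k.ne_zero⟩)) e
    rw [h6] at h5
    omega
  · exfalso
    have h5 := H924.D5.po8minus_card p hC (by rw [h6]; norm_num) hab e
    rw [h6] at h5
    omega
  · right
    obtain ⟨-, h5, ⟨f⟩, -, h7⟩ := H927.G2.core_g2 p hC (by rw [Nat.card_eq_fintype_card]; exact hK) e
      (by rw [h6]; norm_num)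
    rw [h6] at h7
    obtain ⟨g⟩ := H638.G2Iso.equiv (F := F)
    refine ⟨⟨(e.trans (H64.ChevField.groupCongr f _)).trans g.symm⟩, by omega, ?_⟩
    rw [Nat.card_eq_fintype_card, Nat.card_eq_fintype_card] at h5
    omega
  · exfalso
    have h5 := (H392.TD.d4_small p hC hq hK e (by rw [h6]; norm_num)).1
    rw [h6] at h5
    omega

end Cfsg.Agent.H915.Six
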